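import Mathlib

/-!
# Lucido's three primes lemma

In a finite solvable group, among three distinct prime divisors of the order some two
`p, q` are adjacent in the prime graph, i.e. some element has order `p * q`.
We also give the version for a chain `K ≤ M` of normal subgroups of an arbitrary finite group.
-/

namespace CfsgLib.PrimeGraph

open Subgroup

/-- Commuting elements of distinct prime orders give an element of order the product. -/
theorem exists_orderOf_eq_mul_of_commute {G : Type*} [Group G] {p q : ℕ} (hp : p.Prime)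
    (hq : q.Prime) (hpq : p ≠ q) {x y : G} (hx : orderOf x = p) (hy : orderOf y = q)
    (h : Commute x y) : ∃ g : G, orderOf g = p * q := by
  refine ⟨x * y, ?_⟩
  rw [h.orderOf_mul_eq_mul_orderOf_of_coprime (by rw [hx, hy]; exact (Nat.coprime_primes hp hq).2 hpq),
    hx, hy]

/-- An element of the quotient of order `n` gives an element of the group of order `n`. -/
theorem exists_orderOf_eq_of_surjective {G H : Type*} [Group G] [Group H] [Finite G]
    (f : G →* H) (hf : Function.Surjective f) {n : ℕ} (h : ∃ y : H, orderOf y = n) :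
    ∃ x : G, orderOf x = n := by
  obtain ⟨y, rfl⟩ := h
  obtain ⟨x, rfl⟩ := hf y
  have hd : orderOf (f x) ∣ orderOf x := orderOf_map_dvd f x
  exact ⟨x ^ (orderOf x / orderOf (f x)), orderOf_pow_orderOf_div (orderOf_pos x).ne' hd⟩

/-- An element of order `n` in a subgroup is one in the group. -/
theorem exists_orderOf_eq_of_subgroup {G : Type*} [Group G] {H : Subgroup G} {n : ℕ}
    (h : ∃ y : H, orderOf y = n) : ∃ x : G, orderOf x = n := by
  obtain ⟨y, hy⟩ := h
  exact ⟨y, by rwa [Subgroup.orderOf_coe]⟩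

/-- A subgroup generated by a solvable subgroup and a solvable subgroup normalising it is solvable. -/
theorem isSolvable_sup {G : Type*} [Group G] {A B : Subgroup G} (hA : Group.IsSolvable A)
    (hB : Group.IsSolvable B) (hBA : B ≤ normalizer (A : Set G)) :
    Group.IsSolvable ↥(A ⊔ B) := by
  have hle : A ⊔ B ≤ normalizer (A : Set G) := sup_le le_normalizer hBA
  have : (A.subgroupOf (A ⊔ B)).Normal := normal_subgroupOf_of_le_normalizer hle
  let ι : ↥A →* ↥(A ⊔ B) := Subgroup.inclusion le_sup_left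
  let π := QuotientGroup.mk' (A.subgroupOf (A ⊔ B))
  let ψ : ↥B →* (↥(A ⊔ B) ⧸ A.subgroupOf (A ⊔ B)) :=
    π.comp (Subgroup.inclusion le_sup_right)
  have hψ : Function.Surjective ψ := by
    intro z
    induction z using QuotientGroup.induction_on with
    | H g =>
      obtain ⟨g, hg⟩ := g
      have hg' : g ∈ B ⊔ A := by rwa [sup_comm]
      rw [← SetLike.mem_coe, coe_mul_of_left_le_normalizer_right B A hBA] at hg'
      obtain ⟨b, hb, a, ha, rfl⟩ := hg'
      refine ⟨⟨b, hb⟩, ?_⟩
      show (QuotientGroup.mk _ : ↥(A ⊔ B) ⧸ A.subgroupOf (A ⊔ B)) = QuotientGroup.mk _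
      rw [QuotientGroup.eq, mem_subgroupOf]
      simpa using ha
  have : Group.IsSolvable (↥(A ⊔ B) ⧸ A.subgroupOf (A ⊔ B)) := Group.isSolvable_of_surjective hψ
  refine Group.isSolvable_of_ker_le_range ι π fun g hg => ?_
  rw [QuotientGroup.ker_mk', mem_subgroupOf] at hg
  exact ⟨⟨g, hg⟩, rfl⟩

/-- A finite `p`-group is solvable. -/
theorem isSolvable_of_isPGroup {G : Type*} [Group G] [Finite G] {p : ℕ} (hp : p.Prime)
    (h : IsPGroup p G) : Group.IsSolvable G := by
  have := Fact.mk hp
  have := h.isNilpotent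
  infer_instance

/-- A nontrivial finite solvable group has a nontrivial normal subgroup which is abelian of
prime exponent. -/
theorem exists_normal_elementary {G : Type*} [Group G] [Finite G] [Nontrivial G]
    (hG : Group.IsSolvable G) :
    ∃ (V : Subgroup G) (s : ℕ), s.Prime ∧ V.Normal ∧ V ≠ ⊥ ∧
      (∀ a ∈ V, ∀ b ∈ V, a * b = b * a) ∧ ∀ v ∈ V, v ^ s = 1 := by
  classical
  obtain ⟨n, hn⟩ := hG
  induction n with
  | zero =>
    rw [derivedSeries_zero] at hn
    exact absurd hn top_ne_bot
  | succ n ih =>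
    by_cases hb : derivedSeries G n = ⊥
    · exact ih hb
    have hc : ∀ a ∈ derivedSeries G n, ∀ b ∈ derivedSeries G n, a * b = b * a := by
      intro a ha b hb
      rw [derivedSeries_succ, commutator_eq_bot_iff_le_centralizer] at hn
      exact (mem_centralizer_iff.1 (hn ha) b hb).symm
    have hnontriv : Nat.card (derivedSeries G n) ≠ 1 := by
      rw [Ne, Subgroup.card_eq_one]; exact hb
    obtain ⟨s, hs, hsd⟩ := Nat.exists_prime_and_dvd hnontriv
    have := Fact.mk hs
    obtain ⟨a, ha⟩ := exists_prime_orderOf_dvd_card' s hsd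
    let V : Subgroup G :=
      { carrier := {v | v ∈ derivedSeries G n ∧ v ^ s = 1}
        one_mem' := ⟨one_mem _, one_pow _⟩
        mul_mem' := fun {a b} ha hb => ⟨mul_mem ha.1 hb.1, by
          rw [(show Commute a b from hc a ha.1 b hb.1).mul_pow, ha.2, hb.2, one_mul]⟩
        inv_mem' := fun {a} ha => ⟨inv_mem ha.1, by rw [inv_pow, ha.2, inv_one]⟩ }
    refine ⟨V, s, hs, ⟨fun v hv g => ?_⟩, fun h => ?_, fun a ha b hb => hc a ha.1 b hb.1,
      fun v hv => hv.2⟩
    · exact ⟨(derivedSeries_normal G n).conj_mem v hv.1 g, by rw [conj_pow, hv.2]; group⟩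
    · have : (a : G) ∈ V := ⟨a.2, by
        rw [← SubmonoidClass.coe_pow, ← ha, pow_orderOf_eq_one, OneMemClass.coe_one]⟩
      rw [h, mem_bot, OneMemClass.coe_eq_one] at this
      rw [this, orderOf_one] at ha
      exact hs.one_lt.ne ha

/-- If `M` is normal in `G` and the prime `q` divides the index of `M`, the normaliser of a
Sylow subgroup of `M` holds an element of order `q`. -/
theorem exists_orderOf_mem_normalizer_sylow {G : Type*} [Group G] [Finite G] {r q : ℕ}
    [Fact r.Prime] (hq : q.Prime) (M : Subgroup G) [M.Normal] (P : Sylow r M)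
    (hd : q ∣ M.index) :
    ∃ z ∈ normalizer (((P : Subgroup M).map M.subtype : Subgroup G) : Set G), orderOf z = q := by
  have := Fact.mk hq
  set N := normalizer (((P : Subgroup M).map M.subtype : Subgroup G) : Set G) with hNdef
  let φ : ↥N →* G ⧸ M := (QuotientGroup.mk' M).comp N.subtype
  have hφ : Function.Surjective φ := by
    intro z
    induction z using QuotientGroup.induction_on with
    | H g =>
      have hg : g ∈ M ⊔ N := by
        rw [sup_comm, hNdef, Sylow.normalizer_sup_eq_top]; trivial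
      rw [← SetLike.mem_coe, normal_mul M N] at hg
      obtain ⟨m, hm, x, hx, rfl⟩ := hg
      refine ⟨⟨x, hx⟩, ?_⟩
      show (QuotientGroup.mk x : G ⧸ M) = QuotientGroup.mk (m * x)
      rw [QuotientGroup.eq]
      have := Subgroup.Normal.conj_mem (inferInstance : M.Normal) m hm x⁻¹
      simpa [mul_assoc] using this
  have hdvd : q ∣ Nat.card N :=
    hd.trans (Subgroup.card_dvd_of_surjective φ hφ)
  obtain ⟨z, hz⟩ := exists_prime_orderOf_dvd_card' q hdvd
  exact ⟨z, z.2, by rwa [Subgroup.orderOf_coe]⟩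

/-- In a finite solvable group whose order is divisible by two distinct primes, one of them
is the order of an element normalising a nontrivial subgroup of order a power of the other. -/
theorem exists_normalizing {G : Type*} [Group G] [Finite G] (hG : Group.IsSolvable G) {q r : ℕ}
    (hq : q.Prime) (hr : r.Prime) (hqr : q ≠ r) (hqG : q ∣ Nat.card G) (hrG : r ∣ Nat.card G) :
    (∃ (T : Subgroup G) (x : G), IsPGroup r T ∧ T ≠ ⊥ ∧ orderOf x = q ∧
        x ∈ normalizer (T : Set G)) ∨
      (∃ (T : Subgroup G) (x : G), IsPGroup q T ∧ T ≠ ⊥ ∧ orderOf x = r ∧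
        x ∈ normalizer (T : Set G)) := by
  have := Fact.mk hq
  have := Fact.mk hr
  induction hn : Nat.card G using Nat.strong_induction_on generalizing G with
  | _ n ih =>
    have : Nontrivial G := by
      rw [← Finite.one_lt_card_iff_nontrivial]
      exact lt_of_lt_of_le hq.one_lt (Nat.le_of_dvd Nat.card_pos hqG)
    obtain ⟨V, s, hs, hVn, hV1, hVc, hVs⟩ := exists_normal_elementary hG
    have hVp : IsPGroup s V := fun v => ⟨1, by
      apply Subtype.ext
      simpa using hVs v v.2⟩
    have hnorm : ∀ x : G, x ∈ normalizer (V : Set G) := fun x => by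
      rw [normalizer_eq_top]; trivial
    by_cases hsr : s = r
    · obtain ⟨x, hx⟩ := exists_prime_orderOf_dvd_card' q hqG
      exact Or.inl ⟨V, x, hsr ▸ hVp, hV1, hx, hnorm x⟩
    by_cases hsq : s = q
    · obtain ⟨x, hx⟩ := exists_prime_orderOf_dvd_card' r hrG
      exact Or.inr ⟨V, x, hsq ▸ hVp, hV1, hx, hnorm x⟩
    have hcop : ∀ t : ℕ, t.Prime → t ≠ s → ¬ t ∣ Nat.card V := by
      intro t ht hts htV
      have := Fact.mk hs
      obtain ⟨k, hk⟩ := IsPGroup.iff_card.1 hVp
      rw [hk] at htV
      exact hts ((Nat.prime_dvd_prime_iff_eq ht hs).1 (ht.dvd_of_dvd_pow htV))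
    have hsplit := card_eq_card_quotient_mul_card_subgroup V
    have hqQ : q ∣ Nat.card (G ⧸ V) :=
      ((hq.dvd_mul).1 (hsplit ▸ hqG)).resolve_right (hcop q hq (Ne.symm hsq))
    have hrQ : r ∣ Nat.card (G ⧸ V) :=
      ((hr.dvd_mul).1 (hsplit ▸ hrG)).resolve_right (hcop r hr (Ne.symm hsr))
    have hlt : Nat.card (G ⧸ V) < n := by
      rw [← hn, hsplit]
      exact lt_mul_of_one_lt_right Nat.card_pos
        ((Finite.one_lt_card_iff_nontrivial).2 (nontrivial_iff_ne_bot V |>.2 hV1))
    -- lift a normalising pair from the quotient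
    have lift : ∀ a b : ℕ, a.Prime → b.Prime → a ≠ b → b ≠ s → a ≠ s →
        (∃ (T : Subgroup (G ⧸ V)) (x : G ⧸ V), IsPGroup b T ∧ T ≠ ⊥ ∧ orderOf x = a ∧
          x ∈ normalizer (T : Set (G ⧸ V))) →
        ∃ (T : Subgroup G) (x : G), IsPGroup b T ∧ T ≠ ⊥ ∧ orderOf x = a ∧
          x ∈ normalizer (T : Set G) := by
      intro a b ha hb hab hbs has h
      obtain ⟨T, x, hT, hT1, hx, hxT⟩ := h
      have := Fact.mk ha
      have := Fact.mk hb
      have := Fact.mk hs
      set M := T.comap (QuotientGroup.mk' V) with hM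
      set W := normalizer (M : Set G)
      obtain ⟨g, rfl⟩ := QuotientGroup.mk'_surjective V x
      have hgW : g ∈ W := by
        have := le_normalizer_comap (H := T) (QuotientGroup.mk' V) (x := g) hxT
        simpa [W, hM] using this
      have : (M.subgroupOf W).Normal := normal_subgroupOf_of_le_normalizer le_rfl
      have hMW : M ≤ W := le_normalizer
      have hidx : a ∣ (M.subgroupOf W).index := by
        have h1 : orderOf (QuotientGroup.mk' (M.subgroupOf W) ⟨g, hgW⟩) = a := by
          apply orderOf_eq_prime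
          · rw [← map_pow]
            show (QuotientGroup.mk _ : W ⧸ M.subgroupOf W) = 1
            rw [QuotientGroup.eq_one_iff, mem_subgroupOf, hM, mem_comap]
            rw [SubmonoidClass.coe_pow, map_pow, ← hx, pow_orderOf_eq_one]
            exact one_mem _
          · intro h
            rw [QuotientGroup.mk'_apply, QuotientGroup.eq_one_iff, mem_subgroupOf, hM,
              mem_comap] at h
            obtain ⟨k, hk⟩ := hT ⟨_, h⟩
            have hk' : (QuotientGroup.mk' V g) ^ b ^ k = 1 := by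
              simpa using congrArg Subtype.val hk
            have := orderOf_dvd_of_pow_eq_one hk'
            rw [hx] at this
            exact hab ((Nat.prime_dvd_prime_iff_eq ha hb).1 (ha.dvd_of_dvd_pow this))
        rw [← h1]
        exact orderOf_dvd_natCard _
      let P : Sylow b ↥(M.subgroupOf W) := default
      obtain ⟨z, hz, hzo⟩ := exists_orderOf_mem_normalizer_sylow ha (M.subgroupOf W) P hidx
      set T₁ : Subgroup W := (P : Subgroup ↥(M.subgroupOf W)).map (M.subgroupOf W).subtype
      refine ⟨T₁.map W.subtype, z, (P.2.map _).map _, ?_, by rw [Subgroup.orderOf_coe, hzo], ?_⟩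
      · rw [Ne, map_eq_bot_iff_of_injective _ W.subtype_injective,
          map_eq_bot_iff_of_injective _ (subtype_injective _)]
        apply P.ne_bot_of_dvd_card
        rw [Nat.card_congr (subgroupOfEquivOfLe hMW).toEquiv]
        obtain ⟨k, hk⟩ := IsPGroup.iff_card.1 hT
        have hk0 : k ≠ 0 := by
          rintro rfl
          exact hT1 (Subgroup.card_eq_one.1 (by simpa using hk))
        have hTM : Nat.card T ∣ Nat.card M := by
          refine Subgroup.card_dvd_of_surjective
            ((QuotientGroup.mk' V).subgroupComap T) ?_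
          exact (QuotientGroup.mk' V).subgroupComap_surjective_of_surjective T
            (QuotientGroup.mk'_surjective V)
        exact ((hk ▸ dvd_pow_self b hk0) : b ∣ Nat.card T).trans hTM
      · exact le_normalizer_map W.subtype (mem_map_of_mem W.subtype hz)
    rcases ih _ hlt (inferInstance : Group.IsSolvable (G ⧸ V)) hqQ hrQ rfl with h | h
    · exact Or.inl (lift q r hq hr hqr (Ne.symm hsr) (Ne.symm hsq) h)
    · exact Or.inr (lift r q hr hq hqr.symm (Ne.symm hsq) (Ne.symm hsr) h)

/-- A group of operators, normalised without fixed points by an element `x` of prime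
order, cannot act fixed-point-freely together with `x` on an abelian group of coprime order. -/
theorem pow_card_eq_one_of_fixedPointFree {G V : Type*} [Group G] [CommGroup V]
    (φ : G →* MulAut V) (R : Subgroup G) [Finite R]
    {q : ℕ} (hq : q.Prime) {x : G} (hx : orderOf x = q) (hxR : x ∈ normalizer (R : Set G))
    (hxfix : ∀ a ∈ R, a * x = x * a → a = 1) {y : G} (hy : y ∈ R)
    (hVy : ∀ v : V, φ y v = v → v = 1) (hVx : ∀ v : V, φ x v = v → v = 1) (v : V) :
    v ^ Nat.card R = 1 := by
  classical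
  have : Fintype R := Fintype.ofFinite R
  have := Fact.mk hq
  have hfin : IsOfFinOrder x := by
    rw [← orderOf_pos_iff, hx]; exact hq.pos
  have hcent : ∀ c ∈ zpowers x, c ≠ 1 → ∀ a ∈ R, a * c = c * a → a = 1 := by
    intro c hc hc1 a ha hac
    apply hxfix a ha
    have hx' : (⟨x, mem_zpowers x⟩ : zpowers x) ∈ zpowers (⟨c, hc⟩ : zpowers x) :=
      mem_zpowers_of_prime_card (p := q) (by rw [Nat.card_zpowers, hx])
        (fun h => hc1 (congrArg Subtype.val h))
    obtain ⟨k, hk⟩ := mem_zpowers_iff.1 hx'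
    have hk' : c ^ k = x := by simpa using congrArg Subtype.val hk
    rw [← hk']
    exact (Commute.zpow_right hac k).eq
  have : Finite (zpowers x) := finite_zpowers.2 hfin
  have : Fintype (zpowers x) := Fintype.ofFinite _
  -- products over cosets of `⟨x⟩` vanish
  have h1 : ∀ a : G, ∏ c : zpowers x, φ (a * c * a⁻¹) v = 1 := by
    intro a
    have key : ∏ c : zpowers x, φ (c : G) (φ a⁻¹ v) = 1 := by
      apply hVx
      rw [map_prod]
      simp_rw [← MulAut.mul_apply, ← map_mul]
      exact Fintype.prod_equiv (Equiv.mulLeft ⟨x, mem_zpowers x⟩) _ _ (fun c => by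
        simp [mul_assoc])
    calc ∏ c : zpowers x, φ (a * c * a⁻¹) v
        = φ a (∏ c : zpowers x, φ (c : G) (φ a⁻¹ v)) := by
          rw [map_prod]; simp
      _ = 1 := by rw [key, map_one]
  have h2 : ∀ w : V, ∏ b : R, φ (b : G) w = 1 := by
    intro w
    apply hVy
    rw [map_prod]
    simp_rw [← MulAut.mul_apply, ← map_mul]
    exact Fintype.prod_equiv (Equiv.mulLeft ⟨y, hy⟩) _ _ (fun c => by simp)
  have h3 : ∀ c : zpowers x, c ≠ 1 → ∏ a : R, φ ((a : G) * c * (a : G)⁻¹) v = 1 := by
    intro c hc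
    have hcR : (c : G) ∈ normalizer (R : Set G) :=
      (zpowers_le.2 hxR) c.2
    have hmem : ∀ a : R, (a : G) * c * (a : G)⁻¹ * (c : G)⁻¹ ∈ R := by
      intro a
      have := (mem_normalizer_iff.1 hcR ((a : G)⁻¹)).1 (inv_mem a.2)
      have h := mul_mem a.2 this
      simpa [mul_assoc] using h
    let e : R → R := fun a => ⟨_, hmem a⟩
    have he : Function.Injective e := by
      intro a b hab
      have hab' : (a : G) * c * (a : G)⁻¹ * (c : G)⁻¹ = (b : G) * c * (b : G)⁻¹ * (c : G)⁻¹ :=
        congrArg Subtype.val hab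
      have hab'' : (a : G) * c * (a : G)⁻¹ = (b : G) * c * (b : G)⁻¹ := mul_right_cancel hab'
      have : (b : G)⁻¹ * a = 1 := by
        apply hcent c c.2 (fun h => hc (Subtype.ext h)) _ (mul_mem (inv_mem b.2) a.2)
        calc (b : G)⁻¹ * a * c = (b : G)⁻¹ * ((a : G) * c * (a : G)⁻¹) * a := by group
          _ = (b : G)⁻¹ * ((b : G) * c * (b : G)⁻¹) * a := by rw [hab'']
          _ = (c : G) * ((b : G)⁻¹ * a) := by group
      exact Subtype.ext (inv_mul_eq_one.1 this).symm
    calc ∏ a : R, φ ((a : G) * c * (a : G)⁻¹) v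
        = ∏ a : R, φ ((e a : G)) (φ (c : G) v) := by
          refine Finset.prod_congr rfl fun a _ => ?_
          rw [← MulAut.mul_apply, ← map_mul]
          simp [e]
      _ = ∏ b : R, φ (b : G) (φ (c : G) v) :=
          Fintype.prod_bijective e ⟨he, Finite.surjective_of_injective he⟩ _ _ fun _ => rfl
      _ = 1 := h2 _
  have htot : ∏ c : zpowers x, ∏ a : R, φ ((a : G) * c * (a : G)⁻¹) v = 1 := by
    rw [Finset.prod_comm]
    exact Finset.prod_eq_one fun a _ => h1 a
  rw [Fintype.prod_eq_single (1 : zpowers x) h3] at htot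
  simpa [Finset.prod_const, Nat.card_eq_fintype_card] using htot

/-- If a normal abelian `p`-subgroup is nontrivial and an element of order `q` normalises a
nontrivial `r`-subgroup, two of `p, q, r` are adjacent in the prime graph. -/
theorem exists_edge_of_normalizing {G : Type*} [Group G] [Finite G] {p q r : ℕ} (hp : p.Prime)
    (hq : q.Prime) (hr : r.Prime) (hpq : p ≠ q) (hpr : p ≠ r) (hqr : q ≠ r)
    (V : Subgroup G) [V.Normal] (hV1 : V ≠ ⊥) (hVc : ∀ a ∈ V, ∀ b ∈ V, a * b = b * a)
    (hVp : ∀ v ∈ V, v ^ p = 1) (T : Subgroup G) (hT : IsPGroup r T) (hT1 : T ≠ ⊥) (x : G)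
    (hx : orderOf x = q) (hxT : x ∈ normalizer (T : Set G)) :
    (∃ g : G, orderOf g = p * q) ∨ (∃ g : G, orderOf g = p * r) ∨
      (∃ g : G, orderOf g = q * r) := by
  have := Fact.mk hp
  have := Fact.mk hq
  have := Fact.mk hr
  have : Nontrivial T := (nontrivial_iff_ne_bot T).2 hT1
  have : Nontrivial (center T) := hT.center_nontrivial
  let R : Subgroup G := (center T).map T.subtype
  have hR1 : R ≠ ⊥ := by
    rw [Ne, map_eq_bot_iff_of_injective _ T.subtype_injective]
    exact (nontrivial_iff_ne_bot _).1 inferInstance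
  have hRr : IsPGroup r R := (hT.to_subgroup _).map _
  have hxR : x ∈ normalizer (R : Set G) := by
    have key : ∀ g ∈ normalizer (T : Set G), ∀ a ∈ R, g * a * g⁻¹ ∈ R := by
      rintro g hg _ ⟨a, ha, rfl⟩
      refine ⟨⟨g * a * g⁻¹, (mem_normalizer_iff.1 hg a).1 a.2⟩, mem_center_iff.2 fun b => ?_, rfl⟩
      have hb' : g⁻¹ * b * g ∈ T := by
        rw [mem_normalizer_iff.1 hg]
        simp [mul_assoc]
      have := congrArg Subtype.val (mem_center_iff.1 ha ⟨_, hb'⟩)
      apply Subtype.ext
      simp only [Subgroup.coe_mul] at this ⊢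
      calc (b : G) * (g * a * g⁻¹) = g * (g⁻¹ * b * g * a) * g⁻¹ := by group
        _ = g * (a * (g⁻¹ * b * g)) * g⁻¹ := by rw [this]
        _ = g * a * g⁻¹ * b := by group
    rw [mem_normalizer_iff]
    refine fun a => ⟨key x hxT a, fun h => ?_⟩
    have := key x⁻¹ (inv_mem hxT) _ h
    simpa [mul_assoc] using this
  have hordr : ∀ a ∈ R, a ≠ 1 → ∃ b : G, orderOf b = r ∧ b ∈ zpowers a := by
    intro a ha ha1
    obtain ⟨k, hk⟩ := hRr ⟨a, ha⟩
    have hk' : a ^ r ^ k = 1 := by simpa using congrArg Subtype.val hk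
    obtain ⟨i, -, hi⟩ := (Nat.dvd_prime_pow hr).1 (orderOf_dvd_of_pow_eq_one hk')
    have hi0 : i ≠ 0 := by
      rintro rfl
      exact ha1 (orderOf_eq_one_iff.1 (by simpa using hi))
    have hd : r ∣ orderOf a := hi ▸ dvd_pow_self r hi0
    exact ⟨a ^ (orderOf a / r), orderOf_pow_orderOf_div (orderOf_pos a).ne' hd,
      pow_mem (mem_zpowers a) _⟩
  obtain ⟨⟨y₀, hy₀⟩, hy₀1'⟩ := ne_bot_iff_exists_ne_one.1 hR1
  have hy₀1 : y₀ ≠ 1 := fun h => hy₀1' (Subtype.ext h)
  obtain ⟨y, hy, hy'⟩ := hordr y₀ hy₀ hy₀1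
  have hyR : y ∈ R := zpowers_le.2 hy₀ hy'
  by_contra hcon
  push Not at hcon
  obtain ⟨hpq', hpr', hqr'⟩ := hcon
  have hxfix : ∀ a ∈ R, a * x = x * a → a = 1 := by
    intro a ha hax
    by_contra ha1
    obtain ⟨b, hb, hb'⟩ := hordr a ha ha1
    obtain ⟨k, rfl⟩ := mem_zpowers_iff.1 hb'
    obtain ⟨g, hg⟩ := exists_orderOf_eq_mul_of_commute hq hr hqr hx hb
      ((Commute.zpow_left hax k).symm)
    exact hqr' g hg
  let _ : CommGroup V :=
    { (inferInstance : Group V) with mul_comm := fun a b => Subtype.ext (hVc a a.2 b b.2) }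
  have hfix : ∀ (n : ℕ), n.Prime → p ≠ n → (∀ g : G, orderOf g ≠ p * n) → ∀ z : G,
      orderOf z = n → ∀ v : V, MulAut.conjNormal z v = v → v = 1 := by
    intro n hn hpn hno z hz v hv
    by_contra hv1
    have hv' : (v : G) ≠ 1 := fun h => hv1 (Subtype.ext h)
    have hv'' : z * (v : G) * z⁻¹ = v := by
      simpa [MulAut.conjNormal_apply] using congrArg Subtype.val hv
    have hvo : orderOf (v : G) = p := orderOf_eq_prime (hVp v v.2) hv'
    obtain ⟨g, hg⟩ := exists_orderOf_eq_mul_of_commute hp hn hpn hvo hz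
      (show (v : G) * z = z * v from (mul_inv_eq_iff_eq_mul.1 hv'').symm)
    exact hno g hg
  obtain ⟨⟨v, hv⟩, hv1'⟩ := ne_bot_iff_exists_ne_one.1 hV1
  have hv1 : v ≠ 1 := fun h => hv1' (Subtype.ext h)
  obtain ⟨i, hi⟩ := IsPGroup.iff_card.1 hRr
  have hpow := pow_card_eq_one_of_fixedPointFree (MulAut.conjNormal (H := V)) R hq hx hxR hxfix
    hyR (hfix r hr hpr hpr' y hy) (hfix q hq hpq hpq' x hx) ⟨v, hv⟩
  rw [hi] at hpow
  have h2 : v ^ r ^ i = 1 := congrArg Subtype.val hpow
  have h1 : orderOf v = p := orderOf_eq_prime (hVp v hv) hv1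
  have := orderOf_dvd_of_pow_eq_one h2
  rw [h1] at this
  exact hpr ((Nat.prime_dvd_prime_iff_eq hp hr).1 (hp.dvd_of_dvd_pow this))

/-- **Lucido's three primes lemma**: among three distinct prime divisors of the order of a finite
solvable group, two are adjacent in the prime graph. -/
theorem exists_edge_of_isSolvable {G : Type*} [Group G] [Finite G] (hG : Group.IsSolvable G)
    {p q r : ℕ} (hp : p.Prime) (hq : q.Prime) (hr : r.Prime) (hpq : p ≠ q) (hpr : p ≠ r)
    (hqr : q ≠ r) (hpG : p ∣ Nat.card G) (hqG : q ∣ Nat.card G) (hrG : r ∣ Nat.card G) :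
    (∃ g : G, orderOf g = p * q) ∨ (∃ g : G, orderOf g = p * r) ∨
      (∃ g : G, orderOf g = q * r) := by
  induction hn : Nat.card G using Nat.strong_induction_on generalizing G with
  | _ n ih =>
    have : Nontrivial G := by
      rw [← Finite.one_lt_card_iff_nontrivial]
      exact lt_of_lt_of_le hp.one_lt (Nat.le_of_dvd Nat.card_pos hpG)
    obtain ⟨V, s, hs, hVn, hV1, hVc, hVs⟩ := exists_normal_elementary hG
    have main : ∀ b c : ℕ, b.Prime → c.Prime → s ≠ b → s ≠ c → b ≠ c → b ∣ Nat.card G →
        c ∣ Nat.card G → (∃ g : G, orderOf g = s * b) ∨ (∃ g : G, orderOf g = s * c) ∨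
          (∃ g : G, orderOf g = b * c) := by
      intro b c hb hc hsb hsc hbc hbG hcG
      rcases exists_normalizing hG hb hc hbc hbG hcG with
        ⟨T, x, hT, hT1, hx, hxT⟩ | ⟨T, x, hT, hT1, hx, hxT⟩
      · exact exists_edge_of_normalizing hs hb hc hsb hsc hbc V hV1 hVc hVs T hT hT1 x hx hxT
      · rcases exists_edge_of_normalizing hs hc hb hsc hsb hbc.symm V hV1 hVc hVs T hT hT1 x hx hxT
          with h | h | h
        · exact Or.inr (Or.inl h)
        · exact Or.inl h
        · exact Or.inr (Or.inr (by rwa [mul_comm]))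
    by_cases h1 : s = p
    · subst h1
      exact main q r hq hr hpq hpr hqr hqG hrG
    by_cases h2 : s = q
    · subst h2
      rcases main p r hp hr h1 hqr hpr hpG hrG with h | h | h
      · exact Or.inl (by rwa [mul_comm])
      · exact Or.inr (Or.inr h)
      · exact Or.inr (Or.inl h)
    by_cases h3 : s = r
    · subst h3
      rcases main p q hp hq h1 h2 hpq hpG hqG with h | h | h
      · exact Or.inr (Or.inl (by rwa [mul_comm]))
      · exact Or.inr (Or.inr (by rwa [mul_comm]))
      · exact Or.inl h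
    have := Fact.mk hs
    have hVp : IsPGroup s V := fun v => ⟨1, by
      apply Subtype.ext
      simpa using hVs v v.2⟩
    obtain ⟨k, hk⟩ := IsPGroup.iff_card.1 hVp
    have hdiv : ∀ t : ℕ, t.Prime → s ≠ t → t ∣ Nat.card G → t ∣ Nat.card (G ⧸ V) := by
      intro t ht hst htG
      rw [card_eq_card_quotient_mul_card_subgroup V] at htG
      refine (ht.dvd_mul.1 htG).resolve_right fun h => hst ?_
      rw [hk] at h
      exact ((Nat.prime_dvd_prime_iff_eq ht hs).1 (ht.dvd_of_dvd_pow h)).symm
    have hlt : Nat.card (G ⧸ V) < n := by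
      rw [← hn, card_eq_card_quotient_mul_card_subgroup V]
      exact lt_mul_of_one_lt_right Nat.card_pos
        ((Finite.one_lt_card_iff_nontrivial).2 ((nontrivial_iff_ne_bot V).2 hV1))
    have hsurj := QuotientGroup.mk'_surjective V
    exact (ih _ hlt (inferInstance : Group.IsSolvable (G ⧸ V)) (hdiv p hp h1 hpG)
      (hdiv q hq h2 hqG) (hdiv r hr h3 hrG) rfl).imp (exists_orderOf_eq_of_surjective _ hsurj)
      (Or.imp (exists_orderOf_eq_of_surjective _ hsurj) (exists_orderOf_eq_of_surjective _ hsurj))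

/-- Chain version of the three primes lemma: for normal `K ≤ M` with `p ∣ |K|`, `q ∣ [M : K]`,
`r ∣ [G : M]`, two of `p, q, r` are adjacent. -/
theorem exists_edge_of_chain {G : Type*} [Group G] [Finite G] (K M : Subgroup G) [K.Normal]
    [M.Normal] (hKM : K ≤ M) {p q r : ℕ} (hp : p.Prime) (hq : q.Prime) (hr : r.Prime)
    (hpq : p ≠ q) (hpr : p ≠ r) (hqr : q ≠ r) (hpK : p ∣ Nat.card K)
    (hqM : q ∣ K.relIndex M) (hrG : r ∣ M.index) :
    (∃ g : G, orderOf g = p * q) ∨ (∃ g : G, orderOf g = p * r) ∨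
      (∃ g : G, orderOf g = q * r) := by
  have := Fact.mk hp
  have := Fact.mk hq
  let P : Sylow p K := default
  let P' : Subgroup G := (P : Subgroup K).map K.subtype
  let N := normalizer (P' : Set G)
  have hNK : N ⊔ K = ⊤ := Sylow.normalizer_sup_eq_top P
  let N₁ := M.subgroupOf N
  -- `N ∩ M` covers `M / K`
  have hMeq : ∀ m ∈ M, ∃ n ∈ N, n ∈ M ∧ n⁻¹ * m ∈ K := by
    intro m hm
    have : m ∈ N ⊔ K := by rw [hNK]; trivial
    rw [← SetLike.mem_coe, mul_normal N K] at this
    obtain ⟨n, hn, k, hk, rfl⟩ := this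
    refine ⟨n, hn, ?_, by simpa using hk⟩
    have := mul_mem hm (inv_mem (hKM hk))
    simpa using this
  have hq1 : q ∣ Nat.card N₁ := by
    refine hqM.trans ?_
    let f : N₁ →* M ⧸ K.subgroupOf M :=
      (QuotientGroup.mk' (K.subgroupOf M)).comp
        { toFun := fun z => ⟨((z : N) : G), z.2⟩
          map_one' := rfl
          map_mul' := fun _ _ => rfl }
    refine Subgroup.card_dvd_of_surjective f fun z => ?_
    induction z using QuotientGroup.induction_on with
    | H m =>
      obtain ⟨n, hn, hnM, hk⟩ := hMeq m m.2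
      refine ⟨⟨⟨n, hn⟩, hnM⟩, ?_⟩
      show (QuotientGroup.mk _ : M ⧸ K.subgroupOf M) = QuotientGroup.mk m
      rw [QuotientGroup.eq, mem_subgroupOf]
      simpa using hk
  have hr1 : r ∣ N₁.index := by
    refine hrG.trans ?_
    have : N₁.index = M.index := by
      show M.relIndex N = M.index
      have h : M ⊔ N = ⊤ := by
        rw [eq_top_iff, ← hNK]
        exact sup_le le_sup_right (hKM.trans le_sup_left)
      rw [← Subgroup.relIndex_sup_left (K := M) (H := N), h, relIndex_top_right]
    rw [this]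
  let Q : Sylow q N₁ := default
  obtain ⟨z, hz, hzo⟩ := exists_orderOf_mem_normalizer_sylow hr N₁ Q hr1
  let Q' : Subgroup G := ((Q : Subgroup N₁).map N₁.subtype).map N.subtype
  have hzQ : (z : G) ∈ normalizer (Q' : Set G) :=
    le_normalizer_map N.subtype (mem_map_of_mem N.subtype hz)
  have hQN : Q' ≤ N := map_subtype_le _
  have hPs : Group.IsSolvable P' := isSolvable_of_isPGroup hp (P.2.map _)
  have hQs : Group.IsSolvable Q' := isSolvable_of_isPGroup hq ((Q.2.map _).map _)
  have hQz : Group.IsSolvable ↥(Q' ⊔ zpowers (z : G)) :=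
    isSolvable_sup hQs inferInstance (zpowers_le.2 hzQ)
  have hW : Group.IsSolvable ↥(P' ⊔ (Q' ⊔ zpowers (z : G))) :=
    isSolvable_sup hPs hQz (sup_le hQN (zpowers_le.2 z.2))
  refine (exists_edge_of_isSolvable hW hp hq hr hpq hpr hqr ?_ ?_ ?_).imp
    exists_orderOf_eq_of_subgroup
    (Or.imp exists_orderOf_eq_of_subgroup exists_orderOf_eq_of_subgroup)
  · refine dvd_trans ?_ (card_dvd_of_le le_sup_left)
    rw [card_map_of_injective K.subtype_injective]
    exact P.dvd_card_of_dvd_card hpK
  · refine dvd_trans ?_ (card_dvd_of_le (le_trans le_sup_left le_sup_right))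
    rw [card_map_of_injective N.subtype_injective, card_map_of_injective N₁.subtype_injective]
    exact Q.dvd_card_of_dvd_card hq1
  · refine dvd_trans ?_ (card_dvd_of_le (le_trans le_sup_right le_sup_right))
    rw [Nat.card_zpowers, Subgroup.orderOf_coe, hzo]

end CfsgLib.PrimeGraph
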