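import Mathlib

/-!
# Unrecognisability by prime graph from a module

If a finite group `L` acts on a nontrivial finite abelian group `V` of exponent `p ∣ #L`, and
every prime order element of order `r ≠ p` with a nontrivial fixed point in `V` has `p, r`
adjacent in `L`, then the groups `V^(N+1) ⋊ L` have the same prime graph as `L` and unbounded order.
-/

namespace CfsgLib.PrimeGraph

/-- A finite group is isomorphic to a group whose type lives in `Type`. -/
theorem exists_type_zero_model (G : Type*) [Group G] [Finite G] :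
    ∃ (H : Type) (_ : Group H) (_ : Finite H), Nonempty (G ≃* H) :=
  ⟨Shrink.{0} G, inferInstance, Finite.of_equiv G (equivShrink.{0} G), ⟨Shrink.mulEquiv.symm⟩⟩

/-- The coordinatewise action of a group of automorphisms on a power. -/
def piAction {L V : Type*} [Group L] [Group V] (φ : L →* MulAut V) (ι : Type*) :
    L →* MulAut (ι → V) where
  toFun g := MulEquiv.piCongrRight fun _ => φ g
  map_one' := by ext f i; simp
  map_mul' g h := by ext f i; simp

/-- An element of order `p * r` of the extension whose image has order `r` forces an edge. -/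
theorem exists_edge_of_fixed {L V : Type*} [Group L] [CommGroup V] {φ : L →* MulAut V} {p r n : ℕ}
    {x : (Fin n → V) ⋊[piAction φ (Fin n)] L} (hx : orderOf x = p * r)
    (hd : orderOf (SemidirectProduct.rightHom x) = r)
    (hfix : ∀ (g : L) (t : ℕ), t.Prime → t ≠ p → orderOf g = t → ∀ v : V, φ g v = v → v ≠ 1 →
      ∃ h : L, orderOf h = p * t)
    (hp : p.Prime) (hr : r.Prime) (hrp : r ≠ p) : ∃ h : L, orderOf h = p * r := by
  have hne : x ^ r ≠ 1 := by
    intro h
    have := orderOf_dvd_of_pow_eq_one h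
    rw [hx] at this
    have := Nat.le_of_dvd hr.pos this
    nlinarith [hp.one_lt, hr.pos]
  have hright : (x ^ r).right = 1 := by
    show SemidirectProduct.rightHom (x ^ r) = 1
    rw [map_pow, ← hd, pow_orderOf_eq_one]
  have hleft : (x ^ r).left ≠ 1 := fun h => hne (SemidirectProduct.ext h hright)
  obtain ⟨i, hi⟩ : ∃ i, (x ^ r).left i ≠ 1 := Function.ne_iff.1 hleft
  have hc := congrArg SemidirectProduct.left (Commute.self_pow x r).eq
  rw [SemidirectProduct.mul_left, SemidirectProduct.mul_left, hright, map_one,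
    MulAut.one_apply, mul_comm] at hc
  have hc' : piAction φ (Fin n) x.right (x ^ r).left = (x ^ r).left := mul_right_cancel hc
  exact hfix x.right r hr hrp hd _ (congrFun hc' i) hi


/-- Groups of unbounded order with the prime graph of `L`, from a module of `L`. -/
theorem exists_large_same_graph {L V : Type*} [Group L] [Finite L] [CommGroup V] [Finite V]
    [Nontrivial V] (φ : L →* MulAut V) {p : ℕ} (hp : p.Prime) (hV : ∀ v : V, v ^ p = 1)
    (hpL : p ∣ Nat.card L)
    (hfix : ∀ (g : L) (r : ℕ), r.Prime → r ≠ p → orderOf g = r → ∀ v : V, φ g v = v → v ≠ 1 →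
      ∃ h : L, orderOf h = p * r) (N : ℕ) :
    ∃ (H : Type) (_ : Group H) (_ : Finite H), N < Nat.card H ∧
      (∀ r : ℕ, r.Prime → (r ∣ Nat.card L ↔ r ∣ Nat.card H)) ∧
      (∀ r s : ℕ, r.Prime → s.Prime → r ≠ s →
        ((∃ g : L, orderOf g = r * s) ↔ (∃ g : H, orderOf g = r * s))) := by
  classical
  let W := (Fin (N + 1) → V) ⋊[piAction φ (Fin (N + 1))] L
  have : Finite W := Finite.of_equiv _ SemidirectProduct.equivProd.symm
  obtain ⟨H, iH, fH, ⟨e⟩⟩ := exists_type_zero_model W
  have hcard : Nat.card W = Nat.card V ^ (N + 1) * Nat.card L := by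
    rw [SemidirectProduct.card, Nat.card_fun, Nat.card_fin]
  refine ⟨H, iH, fH, ?_, fun r hr => ?_, fun r s hr hs hrs => ?_⟩
  · rw [← Nat.card_congr e.toEquiv, hcard]
    calc N < 2 ^ (N + 1) := (Nat.lt_succ_self N).trans Nat.lt_two_pow_self
      _ ≤ Nat.card V ^ (N + 1) := Nat.pow_le_pow_left Finite.one_lt_card _
      _ ≤ _ := Nat.le_mul_of_pos_right _ Nat.card_pos
  · rw [← Nat.card_congr e.toEquiv, hcard]
    refine ⟨fun h => h.mul_left _, fun h => ?_⟩
    rcases hr.dvd_mul.1 h with h | h
    · have hrV := hr.dvd_of_dvd_pow h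
      have := Fact.mk hr
      obtain ⟨v, hv⟩ := exists_prime_orderOf_dvd_card' r hrV
      rwa [(Nat.prime_dvd_prime_iff_eq hr hp).1 (hv ▸ orderOf_dvd_of_pow_eq_one (hV v))]
    · exact h
  constructor
  · rintro ⟨g, hg⟩
    refine ⟨e (SemidirectProduct.inr g), ?_⟩
    rw [MulEquiv.orderOf_eq, orderOf_injective _ SemidirectProduct.inr_injective, hg]
  rintro ⟨y, hy⟩
  have hx : orderOf (e.symm y) = r * s := by rw [MulEquiv.orderOf_eq, hy]
  set x := e.symm y
  set d := orderOf (SemidirectProduct.rightHom x) with hd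
  have hdvd : d ∣ r * s := hx ▸ orderOf_map_dvd SemidirectProduct.rightHom x
  have hxd : SemidirectProduct.rightHom (x ^ d) = 1 := by rw [map_pow, hd, pow_orderOf_eq_one]
  have hxp : x ^ (d * p) = 1 := by
    rw [pow_mul]
    obtain ⟨w, hw⟩ : x ^ d ∈ (SemidirectProduct.inl :
        (Fin (N + 1) → V) →* W).range := by
      rw [SemidirectProduct.range_inl_eq_ker_rightHom]; exact hxd
    rw [← hw, ← map_pow, show w ^ p = 1 from funext fun i => hV (w i), map_one]
  have hrs_dvd : r * s ∣ d * p := hx ▸ orderOf_dvd_of_pow_eq_one hxp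
  obtain ⟨a, b, ha, hb, hab⟩ := Nat.dvd_mul.1 hdvd
  rcases (Nat.dvd_prime hr).1 ha with ha' | ha' <;>
    rcases (Nat.dvd_prime hs).1 hb with hb' | hb' <;> rw [ha', hb'] at hab
  · exfalso
    rw [← hab, one_mul, one_mul] at hrs_dvd
    exact hrs (((Nat.prime_dvd_prime_iff_eq hr hp).1 (dvd_of_mul_right_dvd hrs_dvd)).trans
      ((Nat.prime_dvd_prime_iff_eq hs hp).1 (dvd_of_mul_left_dvd hrs_dvd)).symm)
  · rw [one_mul] at hab
    rw [← hab] at hrs_dvd
    have hrp : r = p := by
      rw [mul_comm s p] at hrs_dvd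
      exact (Nat.prime_dvd_prime_iff_eq hr hp).1 (Nat.dvd_of_mul_dvd_mul_right hs.pos hrs_dvd)
    subst hrp
    exact exists_edge_of_fixed hx (hd.symm.trans hab.symm) hfix hr hs hrs.symm
  · rw [mul_one] at hab
    rw [← hab] at hrs_dvd
    have hsp : s = p :=
      (Nat.prime_dvd_prime_iff_eq hs hp).1 (Nat.dvd_of_mul_dvd_mul_left hr.pos hrs_dvd)
    subst hsp
    obtain ⟨h, hh⟩ := exists_edge_of_fixed (hx.trans (mul_comm r s)) (hd.symm.trans hab.symm) hfix
      hs hr hrs
    exact ⟨h, hh.trans (mul_comm _ _)⟩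
  · exact ⟨SemidirectProduct.rightHom x, hd.symm.trans hab.symm⟩

/-- The action of invertible matrices on column vectors, as automorphisms of a multiplicative group. -/
def vecAction {F : Type*} [CommRing F] {ι : Type*} [Fintype ι] [DecidableEq ι] :
    (Matrix ι ι F)ˣ →* MulAut (Multiplicative (ι → F)) where
  toFun A :=
    { toFun := fun v => Multiplicative.ofAdd (Matrix.mulVec (A : Matrix ι ι F) v.toAdd)
      invFun := fun v => Multiplicative.ofAdd (Matrix.mulVec ((A⁻¹ : (Matrix ι ι F)ˣ) : Matrix ι ι F) v.toAdd)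
      left_inv := fun v => by simp [Matrix.mulVec_mulVec]
      right_inv := fun v => by simp [Matrix.mulVec_mulVec]
      map_mul' := fun v w => by simp [Matrix.mulVec_add] }
  map_one' := by ext v; simp
  map_mul' A B := by ext v; simp [Matrix.mulVec_mulVec]

/-- Fixed vectors of the action are fixed column vectors. -/
theorem mulVec_eq_of_vecAction {F : Type*} [CommRing F] {ι : Type*} [Fintype ι] [DecidableEq ι]
    {A : (Matrix ι ι F)ˣ} {v : Multiplicative (ι → F)} (h : vecAction A v = v) :
    Matrix.mulVec (A : Matrix ι ι F) v.toAdd = v.toAdd :=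
  congrArg Multiplicative.toAdd h

end CfsgLib.PrimeGraph
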