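import Cfsg.Agent.Solvable.FrobeniusBasic
import Cfsg.Agent.Solvable.Fitting
import Cfsg.Agent.Solvable.Hall
import Cfsg.Agent.PrimeGraph.Lucido
import Cfsg.Agent.OddOrder.CN.Frobenius
import Cfsg.Agent.OddOrder.PiCore
import Cfsg.Agent.OddOrder.BG3.KernelNilpotent
import Cfsg.Agent.OddOrder.TypePBasic

/-!
# Solvable groups with disconnected prime graph

* `frobenius_or_two_frobenius`: such a group is Frobenius or 2-Frobenius.
-/

set_option autoImplicit false
set_option linter.style.haveILetI false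

namespace CfsgLib.PrimeGraphDisconnected

open Subgroup
open scoped commutatorElement

/-- No element has order `a * b` with prime `a` inside `π` and prime `b` outside. -/
abbrev Split (π : Set ℕ) (X : Type*) [Group X] : Prop :=
  ∀ a b : ℕ, a.Prime → b.Prime → a ∈ π → b ∉ π → ∀ g : X, orderOf g ≠ a * b

variable {π : Set ℕ} {X : Type*} [Group X] [Finite X]

omit [Finite X] in
theorem split_compl (h : Split π X) : Split πᶜ X := fun a b ha hb ha' hb' g hg =>
  h b a hb ha (not_not.1 hb') ha' g (hg.trans (mul_comm a b))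

theorem split_of_surjective {Y : Type*} [Group Y] (f : X →* Y) (hf : Function.Surjective f)
    (h : Split π X) : Split π Y := fun a b ha hb ha' hb' g hg =>
  let ⟨x, hx⟩ := PrimeGraph.exists_orderOf_eq_of_surjective f hf ⟨g, hg⟩
  h a b ha hb ha' hb' x hx

omit [Finite X] in
theorem split_subgroup (h : Split π X) (H : Subgroup X) : Split π H := fun a b ha hb ha' hb' g hg =>
  h a b ha hb ha' hb' g (by rwa [Subgroup.orderOf_coe])

/-- Commuting elements do not involve primes from both sides. -/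
theorem eq_one_of_commute (h : Split π X) {x y : X} (hc : Commute x y)
    (hx : ∀ q : ℕ, q.Prime → q ∣ orderOf x → q ∈ π)
    (hy : ∀ q : ℕ, q.Prime → q ∣ orderOf y → q ∉ π) : x = 1 ∨ y = 1 := by
  by_contra! hne
  obtain ⟨a, ha, had⟩ := Nat.exists_prime_and_dvd (n := orderOf x)
    (fun e => hne.1 (orderOf_eq_one_iff.1 e))
  obtain ⟨b, hb, hbd⟩ := Nat.exists_prime_and_dvd (n := orderOf y)
    (fun e => hne.2 (orderOf_eq_one_iff.1 e))
  have hab : a ≠ b := fun e => hy b hb hbd (e ▸ hx a ha had)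
  obtain ⟨g, hg⟩ := PrimeGraph.exists_orderOf_eq_mul_of_commute ha hb hab
    (orderOf_pow_orderOf_div (orderOf_pos x).ne' had)
    (orderOf_pow_orderOf_div (orderOf_pos y).ne' hbd) (hc.pow_pow _ _)
  exact h a b ha hb (hx a ha had) (hy b hb hbd) g hg

/-- A nilpotent subgroup lies on one side. -/
theorem isPi_or_of_isNilpotent (h : Split π X) {N : Subgroup X} (hN : Group.IsNilpotent N) :
    (∀ q : ℕ, q.Prime → q ∣ Nat.card N → q ∈ π) ∨ ∀ q : ℕ, q.Prime → q ∣ Nat.card N → q ∉ π := by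
  by_contra! hne
  obtain ⟨⟨b, hb, hbd, hbπ⟩, ⟨a, ha, had, haπ⟩⟩ := hne
  haveI := Fact.mk ha
  haveI := Fact.mk hb
  obtain ⟨⟨x, hx⟩, hxo⟩ := exists_prime_orderOf_dvd_card' a had
  obtain ⟨⟨y, hy⟩, hyo⟩ := exists_prime_orderOf_dvd_card' b hbd
  rw [Subgroup.orderOf_mk] at hxo hyo
  have hab : a ≠ b := fun e => hbπ (e ▸ haπ)
  obtain ⟨g, hg⟩ := PrimeGraph.exists_orderOf_eq_mul_of_commute ha hb hab hxo hyo
    (NilpotentCover.commute_of_coprime_mem hN hx hy
      (by rw [hxo, hyo]; exact (Nat.coprime_primes ha hb).2 hab))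
  exact h a b ha hb haπ hbπ g hg

/-- A normal Hall `π`-subgroup of such a group is a Frobenius kernel. -/
theorem exists_frobenius (h : Split π X) (K : Subgroup X) [K.Normal] (hK : K ≠ ⊥) (hK' : K ≠ ⊤)
    (hin : ∀ q : ℕ, q.Prime → q ∣ Nat.card K → q ∈ π)
    (hout : ∀ q : ℕ, q.Prime → q ∣ K.index → q ∉ π) :
    ∃ C : Subgroup X, IsComplement' K C ∧
      (∀ c ∈ C, c ≠ 1 → K ⊓ centralizer ({c} : Set X) = ⊥) ∧
      Cfsg.IsFrobeniusComplement C ∧ Cfsg.frobeniusKernel C = (K : Set X) := by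
  obtain ⟨C, hC⟩ := exists_right_complement'_of_coprime (N := K)
    (Nat.coprime_of_dvd fun q hq h1 h2 => hout q hq h2 (hin q hq h1))
  have hC1 : C ≠ ⊥ := fun e => hK' (isComplement'_bot_right.1 (e ▸ hC))
  have hfpf : ∀ c ∈ C, c ≠ 1 → K ⊓ centralizer ({c} : Set X) = ⊥ := by
    intro c hc hc1
    rw [eq_bot_iff]
    rintro k ⟨hk, hkc⟩
    refine mem_bot.2 ((eq_one_of_commute h (mem_centralizer_singleton_iff.1 hkc)
      (fun q hq hd => hin q hq (hd.trans (Subgroup.orderOf_dvd_natCard K hk)))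
      (fun q hq hd => hout q hq ?_)).resolve_right hc1)
    rw [hC.symm.index_eq_card]
    exact hd.trans (Subgroup.orderOf_dvd_natCard C hc)
  have hF := (Solvable.isFrobeniusComplement_iff_fpf hC hK hC1).2 hfpf
  exact ⟨C, hC, hfpf, hF, (Solvable.kernel_eq_of_normal_complement hC hF).symm⟩

/-- A group acting fixed point freely has at most one involution. -/
theorem involution_unique_of_fpf {K E : Subgroup X} [K.Normal] (hK : K ≠ ⊥)
    (hfpf : ∀ e ∈ E, e ≠ 1 → K ⊓ centralizer ({e} : Set X) = ⊥) {t u : X} (ht : t ∈ E)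
    (hto : orderOf t = 2) (hu : u ∈ E) (huo : orderOf u = 2) : t = u := by
  have ht1 : t ≠ 1 := fun e => by rw [e, orderOf_one] at hto; omega
  have hu1 : u ≠ 1 := fun e => by rw [e, orderOf_one] at huo; omega
  have ht2 : t * t = 1 := by rw [← sq, ← hto]; exact pow_orderOf_eq_one t
  have hu2 : u * u = 1 := by rw [← sq, ← huo]; exact pow_orderOf_eq_one u
  have hinv := (Solvable.inverts_of_fpf_involution hfpf ht ht1 ht2).1
  have hinv' := (Solvable.inverts_of_fpf_involution hfpf hu hu1 hu2).1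
  obtain ⟨k, hk, hk1⟩ := K.bot_or_exists_ne_one.resolve_left hK
  have hut : u⁻¹ * t = 1 := by
    by_contra hne
    refine hk1 (Solvable.eq_one_of_commute_of_fpf hfpf (mul_mem (inv_mem hu) ht) hne hk ?_)
    calc u⁻¹ * t * k = u⁻¹ * (t * k * t⁻¹) * t := by group
      _ = u⁻¹ * k⁻¹ * t := by rw [hinv k hk]
      _ = u⁻¹ * (u * k * u⁻¹) * t := by rw [hinv' k hk]
      _ = k * (u⁻¹ * t) := by group
  exact (inv_mul_eq_one.1 hut).symm

/-- Commutators centralise a cyclic normal subgroup. -/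
theorem commutator_mem_centralizer (F : Subgroup X) [F.Normal] [IsCyclic F] (g h : X) :
    ⁅g, h⁆ ∈ centralizer (F : Set X) := by
  have hcomm : Commute (MulAut.conjNormal g : MulAut F) (MulAut.conjNormal h) := by
    obtain ⟨k, hk⟩ := MonoidHom.map_cyclic (MulAut.conjNormal g : F ≃* F).toMonoidHom
    obtain ⟨l, hl⟩ := MonoidHom.map_cyclic (MulAut.conjNormal h : F ≃* F).toMonoidHom
    refine MulEquiv.ext fun t => ?_
    show (MulAut.conjNormal g : MulAut F) ((MulAut.conjNormal h : MulAut F) t) =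
      (MulAut.conjNormal h : MulAut F) ((MulAut.conjNormal g : MulAut F) t)
    rw [show (MulAut.conjNormal h : MulAut F) t = t ^ l from hl t,
      show (MulAut.conjNormal g : MulAut F) t = t ^ k from hk t,
      show (MulAut.conjNormal g : MulAut F) (t ^ l) = (t ^ l) ^ k from hk _,
      show (MulAut.conjNormal h : MulAut F) (t ^ k) = (t ^ k) ^ l from hl _, ← zpow_mul, ← zpow_mul,
      mul_comm]
  have h1 : (MulAut.conjNormal ⁅g, h⁆ : MulAut F) = 1 := by
    rw [map_commutatorElement]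
    exact commutatorElement_eq_one_iff_commute.2 hcomm
  intro t ht
  have h2 := congrArg (fun f : MulAut F => ((f ⟨t, ht⟩ : F) : X)) h1
  simp only [MulAut.conjNormal_apply, MulAut.one_apply] at h2
  exact (mul_inv_eq_iff_eq_mul.1 h2).symm

/-- The structure above a Fitting subgroup which is cyclic and a `π`-group. -/
theorem index_fitting_of_cyclic [Group.IsSolvable X] (h : Split π X)
    (hF : ∀ q : ℕ, q.Prime → q ∣ Nat.card (Cfsg.fittingSubgroup X) → q ∈ π)
    (hcyc : IsCyclic (Cfsg.fittingSubgroup X)) {x : X} (hx : (orderOf x).Prime)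
    (hxπ : orderOf x ∉ π) :
    ∀ q : ℕ, q.Prime → q ∣ (Cfsg.fittingSubgroup X).index → q ∉ π := by
  intro q hq hqd hqπ
  set F := Cfsg.fittingSubgroup X
  haveI hFn : F.Normal := Solvable.fittingSubgroup_normal
  haveI := hcyc
  haveI := Fact.mk hq
  rw [index_eq_card] at hqd
  obtain ⟨z, hz⟩ := exists_prime_orderOf_dvd_card' q hqd
  obtain ⟨y₀, hy₀⟩ := QuotientGroup.mk'_surjective F z
  obtain ⟨y, -, hy, j, hj⟩ := OddOrder.CN.exists_prime_pow_lift (QuotientGroup.mk' F) y₀ (k := 1) hq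
    (by rw [hy₀, hz, pow_one])
  have hyF : y ∉ F := fun h' => by
    rw [← hy₀, ← hy, show QuotientGroup.mk' F y = 1 from (QuotientGroup.eq_one_iff y).2 h',
      orderOf_one] at hz
    exact hq.one_lt.ne hz
  set S := F ⊔ zpowers y with hS
  haveI hSn : S.Normal := ⟨fun n hn g => by
    have h1 : ⁅g, n⁆ ∈ S :=
      mem_sup_left (Solvable.centralizer_fittingSubgroup_le (commutator_mem_centralizer F g n))
    simpa [commutatorElement_def, mul_assoc] using mul_mem h1 hn⟩
  have hSπ : ∀ r : ℕ, r.Prime → r ∣ Nat.card S → r ∈ π := by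
    intro r hr hrd
    rcases hr.dvd_mul.1 (hrd.trans (OddOrder.card_sup_dvd_mul F (zpowers y))) with h' | h'
    · exact hF r hr h'
    · rw [Nat.card_zpowers, hj] at h'
      exact ((Nat.prime_dvd_prime_iff_eq hr hq).1 (hr.dvd_of_dvd_pow h')).symm ▸ hqπ
  have hfix : S ⊓ centralizer (zpowers x : Set X) = ⊥ := by
    rw [eq_bot_iff]
    rintro s ⟨hs, hsx⟩
    refine mem_bot.2 ((eq_one_of_commute h (hsx x (mem_zpowers x)).symm
      (fun r hr hd => hSπ r hr (hd.trans (Subgroup.orderOf_dvd_natCard S hs)))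
      (fun r hr hd => ((Nat.prime_dvd_prime_iff_eq hr hx).1 hd).symm ▸ hxπ)).resolve_right ?_)
    intro e
    rw [e, orderOf_one] at hx
    exact Nat.not_prime_one hx
  have hSnil : Group.IsNilpotent S := OddOrder.isNilpotent_of_prime_fpf (R := zpowers x)
    inferInstance le_normalizer_of_normal (by rwa [Nat.card_zpowers]) hfix
  exact hyF (Solvable.le_fittingSubgroup hSnil (mem_sup_right (mem_zpowers y)))

/-- The main argument, with the Fitting subgroup in `π`. -/
theorem frobenius_or_two_frobenius_aux [Group.IsSolvable X] [Nontrivial X] (h : Split π X)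
    (hF : ∀ q : ℕ, q.Prime → q ∣ Nat.card (Cfsg.fittingSubgroup X) → q ∈ π)
    (hb : ∃ b : ℕ, b.Prime ∧ b ∣ Nat.card X ∧ b ∉ π) :
    (∃ C : Subgroup X, Cfsg.IsFrobeniusComplement C) ∨
    (∃ (H K : Subgroup X) (_ : H.Normal), K.Normal ∧ H < K ∧
      (∃ C : Subgroup ↥K, Cfsg.IsFrobeniusComplement C ∧
        Cfsg.frobeniusKernel C = (H.subgroupOf K : Set ↥K)) ∧
      (∃ C : Subgroup (X ⧸ H), Cfsg.IsFrobeniusComplement C ∧
        Cfsg.frobeniusKernel C = (K.map (QuotientGroup.mk' H) : Set (X ⧸ H)))) := by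
  set L := Cfsg.piCore π X with hL
  have hLπ : ∀ q : ℕ, q.Prime → q ∣ Nat.card L → q ∈ π := OddOrder.isPiSubgroup_piCore π X
  haveI : (Cfsg.fittingSubgroup X).Normal := Solvable.fittingSubgroup_normal
  have hL1 : L ≠ ⊥ := ne_bot_of_le_ne_bot Solvable.fittingSubgroup_ne_bot (OddOrder.le_piCore hF)
  obtain ⟨b, hb, hbd, hbπ⟩ := hb
  have hLt : L ≠ ⊤ := fun e => hbπ (hLπ b hb (by rwa [e, card_top]))
  set f := QuotientGroup.mk' L with hf
  have hfs : Function.Surjective f := QuotientGroup.mk'_surjective L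
  haveI : Nontrivial (X ⧸ L) := QuotientGroup.nontrivial_iff.2 hLt
  have hsp : Split π (X ⧸ L) := split_of_surjective f hfs h
  set Fb := Cfsg.fittingSubgroup (X ⧸ L) with hFb
  haveI : Fb.Normal := Solvable.fittingSubgroup_normal
  haveI hFnil : Group.IsNilpotent Fb := Solvable.fittingSubgroup_isNilpotent
  have hFout : ∀ q : ℕ, q.Prime → q ∣ Nat.card Fb → q ∉ π := by
    refine (isPi_or_of_isNilpotent hsp hFnil).resolve_left fun hall =>
      Solvable.fittingSubgroup_ne_bot (G := X ⧸ L) ?_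
    have hle : Fb.comap f ≤ L := OddOrder.le_piCore (N := Fb.comap f) fun q hq hd => by
      rw [hf, Solvable.card_comap_mk'] at hd
      rcases hq.dvd_mul.1 hd with h1 | h1 <;> first | exact hLπ q hq h1 | exact hall q hq h1
    show Fb = ⊥
    rw [← map_comap_eq_self_of_surjective hfs Fb, eq_bot_iff]
    exact (map_mono hle).trans ((map_eq_bot_iff L).2 (QuotientGroup.ker_mk' L).ge).le
  by_cases hidx : ∀ q : ℕ, q.Prime → q ∣ L.index → q ∉ π
  · obtain ⟨C, -, -, hC, -⟩ := exists_frobenius h L hL1 hLt hLπ hidx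
    exact Or.inl ⟨C, hC⟩
  push Not at hidx
  obtain ⟨a, ha, had, haπ⟩ := hidx
  haveI := Fact.mk ha
  rw [index_eq_card] at had
  obtain ⟨x, hxo⟩ := exists_prime_orderOf_dvd_card' a had
  set K := Fb.comap f with hK
  have hLK : L ≤ K := fun l hl => by
    rw [hK, mem_comap, hf, show QuotientGroup.mk' L l = 1 from (QuotientGroup.eq_one_iff l).2 hl]
    exact one_mem _
  have hKmap : K.map f = Fb := map_comap_eq_self_of_surjective hfs Fb
  haveI : (L.subgroupOf K).Normal := inferInstance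
  have hcardK : Nat.card Fb = (L.subgroupOf K).index := by
    have h1 : L.relIndex K = Nat.card Fb := by
      rw [← hKmap, ← relIndex_bot_left (K.map f), ← Subgroup.map_bot f, relIndex_map_map,
        bot_sup_eq, hf, QuotientGroup.ker_mk', sup_eq_left.mpr hLK]
    exact h1.symm
  have hLlt : L < K := lt_of_le_of_ne hLK fun e => Solvable.fittingSubgroup_ne_bot (G := X ⧸ L) (by
    rw [← hFb, ← hKmap, ← e]
    exact (map_eq_bot_iff L).2 (QuotientGroup.ker_mk' L).ge)
  obtain ⟨C, hC, hfpf, hCF, hCk⟩ := exists_frobenius (split_subgroup h K) (L.subgroupOf K)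
    (fun e => hL1 (by
      have := congrArg (Subgroup.map K.subtype) e
      rwa [map_subgroupOf_eq_of_le hLK, Subgroup.map_bot] at this))
    (fun e => hLlt.not_ge (subgroupOf_eq_top.1 e))
    (fun q hq hd => hLπ q hq (by rwa [Nat.card_congr (subgroupOfEquivOfLe hLK).toEquiv] at hd))
    (fun q hq hd => hFout q hq (hcardK ▸ hd))
  -- `C` is isomorphic to the Fitting subgroup of the quotient
  let e : C →* Fb := ((f.comp K.subtype).comp C.subtype).codRestrict Fb fun c => (c : K).2
  have he : Function.Injective e := by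
    rw [← MonoidHom.ker_eq_bot_iff, eq_bot_iff]
    intro c hc
    have h1 : (c : K) ∈ L.subgroupOf K :=
      mem_subgroupOf.2 ((QuotientGroup.eq_one_iff _).1 (congrArg Subtype.val hc))
    exact mem_bot.2 (Subtype.ext (disjoint_def.1 hC.disjoint h1 c.2))
  have hcard : Nat.card Fb = Nat.card C := by rw [hcardK, hC.symm.index_eq_card]
  let eq : C ≃* Fb := MulEquiv.ofBijective e (he.bijective_of_nat_card_le hcard.le)
  have hLK1 : L.subgroupOf K ≠ ⊥ := fun e' => hL1 (by
    have := congrArg (Subgroup.map K.subtype) e'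
    rwa [map_subgroupOf_eq_of_le hLK, Subgroup.map_bot] at this)
  -- it has odd order
  have hodd : Odd (Nat.card C) := by
    rw [← Nat.not_even_iff_odd, even_iff_two_dvd]
    intro h2
    haveI := Fact.mk Nat.prime_two
    obtain ⟨t, hto⟩ := exists_prime_orderOf_dvd_card' 2 h2
    set s : X ⧸ L := ((eq t : Fb) : X ⧸ L)
    have hso : orderOf s = 2 := by rw [Subgroup.orderOf_coe, MulEquiv.orderOf_eq, hto]
    have hs2π : (2 : ℕ) ∉ π := hFout 2 Nat.prime_two (hcard ▸ h2)
    have hfix : x * s * x⁻¹ = s := by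
      set u := eq.symm ⟨_, (inferInstance : Fb.Normal).conj_mem s (eq t).2 x⟩ with hu
      have huo : orderOf u = 2 := by
        rw [hu, MulEquiv.orderOf_eq, Subgroup.orderOf_mk, ← MulAut.conj_apply, MulEquiv.orderOf_eq,
          hso]
      have htu : (u : K) = (t : K) := involution_unique_of_fpf hLK1 hfpf u.2
        (by rw [Subgroup.orderOf_coe, huo]) t.2 (by rw [Subgroup.orderOf_coe, hto])
      have h1 : eq u = eq t := by rw [Subtype.ext htu]
      rw [hu, MulEquiv.apply_symm_apply] at h1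
      exact congrArg Subtype.val h1
    rcases eq_one_of_commute hsp (x := x) (y := s) (mul_inv_eq_iff_eq_mul.1 hfix)
      (fun q hq hd => by
        rw [hxo] at hd; exact ((Nat.prime_dvd_prime_iff_eq hq ha).1 hd).symm ▸ haπ)
      (fun q hq hd => by
        rw [hso] at hd; exact ((Nat.prime_dvd_prime_iff_eq hq Nat.prime_two).1 hd).symm ▸ hs2π)
      with h1 | h1
    · rw [h1, orderOf_one] at hxo; exact ha.one_lt.ne hxo
    · rw [h1, orderOf_one] at hso; omega
  haveI : IsZGroup C := OddOrder.CN.isZGroup_of_fpf hLK1 hfpf le_rfl hodd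
  haveI : Group.IsNilpotent C := Group.nilpotent_of_mulEquiv eq.symm
  haveI : IsCyclic C := inferInstance
  have hFcyc : IsCyclic Fb := isCyclic_of_surjective eq.toMonoidHom eq.surjective
  have hx1 : x ∉ Fb := fun hmem => hFout a ha (hxo ▸ Subgroup.orderOf_dvd_natCard Fb hmem) haπ
  have hout := index_fitting_of_cyclic (split_compl hsp) hFout hFcyc (x := x) (hxo ▸ ha)
    (hxo ▸ not_not.2 haπ)
  obtain ⟨D, -, -, hD, hDk⟩ := exists_frobenius (split_compl hsp) Fb
    Solvable.fittingSubgroup_ne_bot (fun e' => hx1 (e' ▸ mem_top x)) hFout hout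
  exact Or.inr ⟨L, K, inferInstance, inferInstance, hLlt, ⟨C, hCF, hCk⟩,
    ⟨D, hD, by rw [hKmap]; exact hDk⟩⟩

/-- A solvable group with disconnected prime graph is Frobenius or 2-Frobenius. -/
theorem frobenius_or_two_frobenius [Group.IsSolvable X] (h : Split π X)
    (ha : ∃ a ∈ π, a.Prime ∧ a ∣ Nat.card X) (hb : ∃ b ∉ π, b.Prime ∧ b ∣ Nat.card X) :
    (∃ C : Subgroup X, Cfsg.IsFrobeniusComplement C) ∨
    (∃ (H K : Subgroup X) (_ : H.Normal), K.Normal ∧ H < K ∧
      (∃ C : Subgroup ↥K, Cfsg.IsFrobeniusComplement C ∧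
        Cfsg.frobeniusKernel C = (H.subgroupOf K : Set ↥K)) ∧
      (∃ C : Subgroup (X ⧸ H), Cfsg.IsFrobeniusComplement C ∧
        Cfsg.frobeniusKernel C = (K.map (QuotientGroup.mk' H) : Set (X ⧸ H)))) := by
  obtain ⟨a, haπ, ha, had⟩ := ha
  obtain ⟨b, hbπ, hb, hbd⟩ := hb
  haveI : Nontrivial X := by
    rw [← Finite.one_lt_card_iff_nontrivial]
    exact lt_of_lt_of_le ha.one_lt (Nat.le_of_dvd Nat.card_pos had)
  rcases isPi_or_of_isNilpotent h Solvable.fittingSubgroup_isNilpotent with hF | hF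
  · exact frobenius_or_two_frobenius_aux h hF ⟨b, hb, hbd, hbπ⟩
  · exact frobenius_or_two_frobenius_aux (split_compl h) hF ⟨a, ha, had, not_not.2 haπ⟩

end CfsgLib.PrimeGraphDisconnected
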